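import Groth.Agent.DPFromP.Num

/-! Divided powers from a `p`-th divided power. -/

set_option autoImplicit false

universe u

open Finset Groth.Agent.DPowLib

namespace Groth.Agent.DPFromP

variable {A : Type u} [CommRing A]

/-- The recursion `g n x = x^(n % p) g (n/p) (d x) / U n`. -/
noncomputable def g (p : ℕ) (d : A → A) (n : ℕ) (x : A) : A :=
  if h : n = 0 ∨ p ≤ 1 then 1 else Ring.inverse (U p n : A) * x ^ (n % p) * g p d (n / p) (d x)
termination_by n
decreasing_by exact Nat.div_lt_self (by omega) (by omega)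

variable {p : ℕ} (hp : p.Prime) (hA : ∀ n : ℕ, ¬ p ∣ n → IsUnit (n : A)) {I : Ideal A} {d : A → A}
  (hdI : ∀ x ∈ I, d x ∈ I) (h1 : ∀ x ∈ I, (p.factorial : A) * d x = x ^ p)
  (h2 : ∀ (a x : A), x ∈ I → d (a * x) = a ^ p * d x)
  (h3 : ∀ x ∈ I, ∀ y ∈ I, d (x + y) = d x + d y +
      ((Finset.HasAntidiagonal.antidiagonal p).filter fun k => 0 < k.1 ∧ 0 < k.2).sum
        fun k => Ring.inverse ((k.1.factorial * k.2.factorial : ℕ) : A) * x ^ k.1 * y ^ k.2)

theorem g_zero (x : A) : g p d 0 x = 1 := by rw [g, dif_pos (Or.inl rfl)]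

include hp in
theorem div_lt {n : ℕ} (hn : n ≠ 0) : n / p < n := Nat.div_lt_self (Nat.pos_of_ne_zero hn) hp.one_lt

include hp hA

theorem isUnit_U (n : ℕ) : IsUnit (U p n : A) := hA _ (not_dvd_U hp n)

theorem isUnit_fact {i : ℕ} (hi : i < p) : IsUnit (i.factorial : A) := U_small hp hi ▸ isUnit_U hp hA i

theorem g_eq (n : ℕ) (x : A) : (U p n : A) * g p d n x = x ^ (n % p) * g p d (n / p) (d x) := by
  rcases eq_or_ne n 0 with rfl | hn
  · simp [g_zero, U, Nat.uniformBell_zero_left]
  · conv_lhs => rw [g, dif_neg (by have := hp.one_lt; omega)]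
    rw [← mul_assoc, ← mul_assoc, Ring.mul_inverse_cancel _ (isUnit_U hp hA n), one_mul]

theorem g_fact {i : ℕ} (hi : i < p) (x : A) : (i.factorial : A) * g p d i x = x ^ i := by
  rw [← U_small hp hi, g_eq hp hA, Nat.mod_eq_of_lt hi, Nat.div_eq_of_lt hi, g_zero, mul_one]

theorem g_one (x : A) : g p d 1 x = x := by
  simpa using g_fact hp hA (d := d) hp.one_lt x

theorem g_mulp (k : ℕ) (x : A) : g p d k (d x) = (Nat.uniformBell k p : A) * g p d (p * k) x := by
  rw [← U_mul hp, g_eq hp hA, Nat.mul_mod_right, Nat.mul_div_cancel_left k hp.pos, pow_zero, one_mul]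

theorem g_p (x : A) : g p d p x = d x := by
  have := g_mulp hp hA (d := d) 1 x
  rw [g_one hp hA, Nat.uniformBell_one_left, Nat.cast_one, one_mul, mul_one] at this
  exact this.symm

include hdI

theorem g_mem : ∀ (n : ℕ) {x : A}, n ≠ 0 → x ∈ I → g p d n x ∈ I := fun n => by
  induction n using Nat.strong_induction_on with
  | _ n ih =>
    intro x hn hx
    rw [← I.unit_mul_mem_iff_mem (isUnit_U hp hA n), g_eq hp hA]
    rcases eq_or_ne (n % p) 0 with h | h
    · refine I.mul_mem_left _ (ih _ (div_lt hp hn) (fun h0 => hn ?_) (hdI x hx))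
      rw [← Nat.div_add_mod n p, h0, h, mul_zero]
    · exact I.mul_mem_right _ (I.pow_mem_of_mem hx _ (Nat.pos_of_ne_zero h))

include h2

theorem g_smul : ∀ (n : ℕ) (c : A) {x : A}, x ∈ I → g p d n (c * x) = c ^ n * g p d n x := fun n => by
  induction n using Nat.strong_induction_on with
  | _ n ih =>
    intro c x hx
    rcases eq_or_ne n 0 with rfl | hn
    · simp [g_zero]
    refine (isUnit_U hp hA n).mul_left_cancel ?_
    rw [mul_left_comm, g_eq hp hA, g_eq hp hA, h2 c x hx, ih _ (div_lt hp hn) _ (hdI x hx), ← pow_mul, mul_pow]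
    rw [show c ^ n = c ^ (p * (n / p)) * c ^ (n % p) by rw [← pow_add, Nat.div_add_mod]]
    ring

theorem g_zero_right {n : ℕ} (hn : n ≠ 0) : g p d n 0 = 0 := by
  have := g_smul hp hA hdI h2 n 0 (zero_mem I)
  rwa [zero_mul, zero_pow hn, zero_mul] at this

include h1

theorem g_succ : ∀ (n : ℕ) {x : A}, x ∈ I → x * g p d n x = ((n + 1 : ℕ) : A) * g p d (n + 1) x := fun n => by
  induction n using Nat.strong_induction_on with
  | _ n ih =>
    intro x hx
    rcases eq_or_ne n 0 with rfl | hn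
    · rw [g_zero, g_one hp hA]; simp
    refine (isUnit_U hp hA n).mul_left_cancel ?_
    rw [mul_left_comm, g_eq hp hA, ← mul_assoc, ← pow_succ']
    rcases Nat.lt_or_ge (n % p + 1) p with h | h
    · have e : (n + 1) / p = n / p ∧ (n + 1) % p = n % p + 1 := by
        rw [Nat.div_mod_unique hp.pos]; exact ⟨by have := Nat.div_add_mod n p; omega, h⟩
      rw [← mul_assoc, ← Nat.cast_mul, ← U_succ_small hp h, g_eq hp hA, e.1, e.2]
    · have h' : n % p + 1 = p := le_antisymm (Nat.mod_lt n hp.pos) h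
      obtain ⟨e1, e2⟩ := U_succ_carry hp h'
      rw [h', ← h1 x hx, mul_assoc, ih _ (div_lt hp hn) (hdI x hx), ← mul_assoc (U p n : A), ← Nat.cast_mul, e1,
        g_mulp hp hA, ← e2, e2, U_mul hp]
      push_cast; ring

theorem g_pow (t n : ℕ) {x : A} (hx : x ∈ I) :
    x ^ t * g p d n x = ((n + 1).ascFactorial t : A) * g p d (n + t) x := by
  induction t with
  | zero => simp
  | succ t ih =>
    rw [pow_succ', mul_assoc, ih, mul_left_comm, g_succ hp hA hdI h1 h2 _ hx, Nat.ascFactorial_succ,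
      show n + t + 1 = n + (t + 1) from rfl]
    push_cast; ring

theorem g_mul : ∀ (m n : ℕ) {x : A}, x ∈ I →
    g p d m x * g p d n x = ((m + n).choose m : A) * g p d (m + n) x := fun m => by
  induction m using Nat.strong_induction_on with
  | _ m ih =>
    intro n x hx
    rcases eq_or_ne m 0 with rfl | hm
    · simp [g_zero]
    refine ((isUnit_U hp hA m).mul (isUnit_U hp hA n)).mul_left_cancel ?_
    rw [mul_mul_mul_comm, g_eq hp hA, g_eq hp hA, mul_mul_mul_comm, ← pow_add, ih _ (div_lt hp hm) _ (hdI x hx),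
      g_mulp hp hA, ← mul_assoc ((U p m : A) * _), ← Nat.cast_mul, ← Nat.cast_mul, U_mul_choose hp]
    have := g_pow hp hA hdI h1 h2 (m % p + n % p) (p * (m / p + n / p)) hx
    rw [show p * (m / p + n / p) + (m % p + n % p) = m + n by
      have := Nat.div_add_mod m p; have := Nat.div_add_mod n p; rw [mul_add]; omega] at this
    push_cast
    linear_combination ((m / p + n / p).choose (m / p) : A) * (Nat.uniformBell (m / p + n / p) p : A) * this

theorem g_comp_le (m : ℕ) {i : ℕ} (hi : i ≠ 0) (hip : i ≤ p) {x : A} (hx : x ∈ I) :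
    g p d m (g p d i x) = (Nat.uniformBell m i : A) * g p d (m * i) x := by
  rcases hip.eq_or_lt with rfl | hip
  · rw [g_p hp hA, g_mulp hp hA, mul_comm m]
  refine ((isUnit_fact hp hA hip).pow m).mul_left_cancel ?_
  rw [← g_smul hp hA hdI h2 m _ (g_mem hp hA hdI i hi hx), g_fact hp hA hip]
  conv_lhs => rw [← Nat.sub_add_cancel (Nat.pos_of_ne_zero hi), pow_succ]
  rw [g_smul hp hA hdI h2 m _ hx, ← pow_mul, g_pow hp hA hdI h1 h2 _ _ hx, asc_bell hp hi,
    show m + (i - 1) * m = m * i by obtain ⟨i, rfl⟩ := Nat.exists_eq_succ_of_ne_zero hi; simp; ring]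
  push_cast; ring

omit hdI h1 h2 in
theorem rel_mon_left (a b : A) (i : ℕ) : Rel (g p d) a b (g p d i a, mon i 0) := by
  have := rel_mon (g p d) a b i 0
  rwa [g_zero, mul_one] at this

omit hdI h1 h2 in
theorem rel_mon_right (a b : A) (j : ℕ) : Rel (g p d) a b (g p d j b, mon 0 j) := by
  have := rel_mon (g p d) a b 0 j
  rwa [g_zero, one_mul] at this

theorem rel_mul' {a b : A} (ha : a ∈ I) (hb : b ∈ I) {q q'} (hq : Rel (g p d) a b q) (hq' : Rel (g p d) a b q') :
    Rel (g p d) a b (q * q') := by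
  obtain ⟨e, rfl⟩ := hq
  obtain ⟨e', rfl⟩ := hq'
  rw [DPowLib.val, Finsupp.linearCombination_apply, Finsupp.linearCombination_apply, Finsupp.sum, Finsupp.sum, sum_mul_sum]
  refine rel_sum _ a b _ _ fun x _ => rel_sum _ a b _ _ fun y _ => ?_
  rw [smul_mul_smul_comm]
  refine rel_nsmul _ a b ?_ _
  rw [Prod.mk_mul_mk, mon_mul, mul_mul_mul_comm, g_mul hp hA hdI h1 h2 _ _ ha, g_mul hp hA hdI h1 h2 _ _ hb,
    show ((x.1 + y.1).choose x.1 : A) * g p d (x.1 + y.1) a * ((x.2 + y.2).choose x.2 * g p d (x.2 + y.2) b) =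
      ((x.1 + y.1).choose x.1 * (x.2 + y.2).choose x.2) • (g p d (x.1 + y.1) a * g p d (x.2 + y.2) b) by
        rw [nsmul_eq_mul]; push_cast; ring, ← Prod.smul_mk]
  exact rel_nsmul _ a b (rel_mon _ a b _ _) _

omit hdI h1 h2 in
theorem rel_one (a b : A) : Rel (g p d) a b 1 := by
  have := rel_mon_left hp hA (d := d) a b 0
  rwa [g_zero, show mon 0 0 = 1 by simp [mon], Prod.mk_one_one] at this

theorem rel_pow {a b : A} (ha : a ∈ I) (hb : b ∈ I) {q} (hq : Rel (g p d) a b q) (m : ℕ) :
    Rel (g p d) a b (q ^ m) := by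
  induction m with
  | zero => rw [pow_zero]; exact rel_one hp hA a b
  | succ m ih => rw [pow_succ]; exact rel_mul' hp hA hdI h1 h2 ha hb ih hq

omit hp hA hdI h1 h2

/-- The formal variable `X`. -/
noncomputable def X' : Polynomial (Polynomial ℚ) := Polynomial.C (Polynomial.X : Polynomial ℚ)

/-- The formal variable `Y`. -/
noncomputable def Y' : Polynomial (Polynomial ℚ) := Polynomial.X

theorem qdp_X (t : ℕ) : qdp t X' = mon t 0 := by simp [qdp, mon, X', ← map_pow, ← map_mul]

theorem qdp_Y (t : ℕ) : qdp t Y' = mon 0 t := by simp [qdp, mon, Y']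

theorem qdp_XY (i j : ℕ) : qdp i X' * qdp j Y' = mon i j := by
  rw [qdp_X, qdp_Y, mon_mul]; simp

theorem qdp_scal (m : ℕ) (c β : Polynomial (Polynomial ℚ)) : qdp m (c * β) = c ^ m * qdp m β := by
  simp only [qdp]; ring

include hp hA hdI h1 h2 h3

theorem g_add : ∀ (n : ℕ) {x y : A}, x ∈ I → y ∈ I →
    g p d n (x + y) = (antidiagonal n).sum fun k => g p d k.1 x * g p d k.2 y := fun n => by
  induction n using Nat.strong_induction_on with
  | _ n ih =>
    intro x y hx hy
    rcases eq_or_ne n 0 with rfl | hn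
    · simp [g_zero]
    let P : A × Polynomial (Polynomial ℚ) → Prop := fun q =>
      q.1 ∈ I ∧ ∀ m, m ≤ n / p → Rel (g p d) x y (g p d m q.1, qdp m q.2)
    have Padd : ∀ q q', P q → P q' → P (q + q') := fun q q' hq hq' => ⟨add_mem hq.1 hq'.1, fun m hm => by
      rw [Prod.fst_add, Prod.snd_add, ih m (lt_of_le_of_lt hm (div_lt hp hn)) hq.1 hq'.1, qdp_add]
      have : ((antidiagonal m).sum fun k => g p d k.1 q.1 * g p d k.2 q'.1,
          ∑ k ∈ antidiagonal m, qdp k.1 q.2 * qdp k.2 q'.2) =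
          ∑ k ∈ antidiagonal m, (g p d k.1 q.1, qdp k.1 q.2) * (g p d k.2 q'.1, qdp k.2 q'.2) := by
        ext <;> simp [Prod.fst_sum, Prod.snd_sum]
      rw [this]
      refine rel_sum _ x y _ _ fun k hk => rel_mul' hp hA hdI h1 h2 hx hy (hq.2 _ ?_) (hq'.2 _ ?_) <;>
      · rw [HasAntidiagonal.mem_antidiagonal] at hk; omega⟩
    have Pzero : P 0 := ⟨zero_mem I, fun m _ => by
      rcases eq_or_ne m 0 with rfl | hm
      · simpa [g_zero, qdp, Prod.mk_one_one] using rel_one hp hA (d := d) x y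
      · simpa [g_zero_right hp hA hdI h2 hm, qdp, zero_pow hm, Prod.mk_zero_zero] using rel_zero (g p d) x y⟩
    have hgen : ∀ k ∈ antidiagonal p, P (g p d k.1 x * g p d k.2 y, mon k.1 k.2) := by
      rintro ⟨i, j⟩ hk
      rw [HasAntidiagonal.mem_antidiagonal] at hk
      simp only at hk ⊢
      rcases eq_or_ne i 0 with rfl | hi
      · have hj : j ≠ 0 := by have := hp.ne_zero; omega
        refine ⟨by simpa [g_zero] using g_mem hp hA hdI j hj hy, fun m _ => ?_⟩
        rw [g_zero, one_mul, g_comp_le hp hA hdI h1 h2 m hj (by omega) hy, ← qdp_Y, qdp_comp m hj, qdp_Y,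
          ← nsmul_eq_mul, ← Prod.smul_mk]
        exact rel_nsmul _ x y (rel_mon_right hp hA x y _) _
      · refine ⟨I.mul_mem_right _ (g_mem hp hA hdI i hi hx), fun m _ => ?_⟩
        rw [mul_comm (g p d i x), g_smul hp hA hdI h2 m _ (g_mem hp hA hdI i hi hx),
          g_comp_le hp hA hdI h1 h2 m hi (by omega) hx, ← qdp_XY, mul_comm (qdp i X'), qdp_scal, qdp_comp m hi,
          qdp_X, qdp_Y, ← nsmul_eq_mul, ← Prod.mk_mul_mk, ← Prod.smul_mk, ← Prod.pow_mk]
        exact rel_mul' hp hA hdI h1 h2 hx hy (rel_pow hp hA hdI h1 h2 hx hy (rel_mon_right hp hA x y _) m)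
          (rel_nsmul _ x y (rel_mon_left hp hA x y _) _)
    have hd : d (x + y) = ∑ k ∈ antidiagonal p, g p d k.1 x * g p d k.2 y := by
      rw [h3 x hx y hy, ← sum_filter_add_sum_filter_not (antidiagonal p) (fun k => 0 < k.1 ∧ 0 < k.2)
        (fun k => g p d k.1 x * g p d k.2 y), add_comm (d x + d y)]
      congr 1
      · refine sum_congr rfl fun k hk => ?_
        obtain ⟨hk, hk1, hk2⟩ := mem_filter.1 hk
        rw [HasAntidiagonal.mem_antidiagonal] at hk
        have u1 := isUnit_fact hp hA (i := k.1) (by omega)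
        have u2 := isUnit_fact hp hA (i := k.2) (by omega)
        refine (u1.mul u2).mul_left_cancel ?_
        rw [Nat.cast_mul, mul_assoc (Ring.inverse _), ← mul_assoc, Ring.mul_inverse_cancel _ (u1.mul u2), one_mul,
          mul_mul_mul_comm, g_fact hp hA (by omega), g_fact hp hA (by omega)]
      · have e : (antidiagonal p).filter (fun k => ¬ (0 < k.1 ∧ 0 < k.2)) = {(p, 0), (0, p)} := by
          ext ⟨i, j⟩
          simp only [mem_filter, HasAntidiagonal.mem_antidiagonal, mem_insert, mem_singleton, Prod.mk.injEq]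
          omega
        rw [e, sum_pair (by simp [hp.ne_zero]), g_zero, g_zero, mul_one, one_mul, g_p hp hA, g_p hp hA]
    have hL : Rel (g p d) x y ((U p n : A) * g p d n (x + y), U p n • qdp n (X' + Y')) := by
      rw [g_eq hp hA, ← key_poly hp, ← Prod.mk_mul_mk, ← Prod.pow_mk]
      refine rel_mul' hp hA hdI h1 h2 hx hy (rel_pow hp hA hdI h1 h2 hx hy ?_ _) ?_
      · have h1' := rel_add _ _ _ (rel_mon_left hp hA (d := d) x y 1) (rel_mon_right hp hA (d := d) x y 1)
        rw [g_one hp hA, g_one hp hA, Prod.mk_add_mk, ← qdp_X, ← qdp_Y] at h1'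
        simpa [qdp] using h1'
      · have := (Finset.sum_induction _ P Padd Pzero hgen).2 (n / p) le_rfl
        rw [Prod.fst_sum, Prod.snd_sum, ← hd] at this
        simp only [← qdp_XY] at this
        rwa [← qdp_add] at this
    have hR : Rel (g p d) x y ((U p n : A) * ∑ k ∈ antidiagonal n, g p d k.1 x * g p d k.2 y,
        U p n • qdp n (X' + Y')) := by
      have h : Rel (g p d) x y (∑ k ∈ antidiagonal n, (g p d k.1 x * g p d k.2 y, mon k.1 k.2)) :=
        rel_sum _ x y _ _ fun k _ => rel_mon _ x y _ _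
      have h' := rel_nsmul _ x y h (U p n)
      rw [← nsmul_eq_mul, ← Prod.smul_mk, qdp_add]
      simp only [qdp_XY]
      convert h' using 2
      ext <;> simp [Prod.fst_sum, Prod.snd_sum]
    exact (isUnit_U hp hA n).mul_left_cancel (rel_unique _ x y hL hR)

omit h3 in
theorem g_comp : ∀ (n m : ℕ) {x : A}, n ≠ 0 → x ∈ I →
    g p d m (g p d n x) = (Nat.uniformBell m n : A) * g p d (m * n) x := fun n => by
  induction n using Nat.strong_induction_on with
  | _ n ih =>
    intro m x hn hx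
    have h0 := zero_mem I
    have ry : ∀ k, Rel (g p d) x 0 (g p d k (d x), qdp k (qdp p X')) := fun k => by
      rw [g_mulp hp hA, qdp_comp k hp.ne_zero, qdp_X, mul_comm k p, ← nsmul_eq_mul, ← Prod.smul_mk]
      exact rel_nsmul _ x 0 (rel_mon_left hp hA x 0 _) _
    have hR : Rel (g p d) x 0 ((U p n : A) ^ m * ((Nat.uniformBell m n : A) * g p d (m * n) x),
        qdp m (U p n • qdp n X')) := by
      rw [nsmul_eq_mul, qdp_scal, qdp_comp m hn, qdp_X]
      have := rel_nsmul _ x 0 (rel_mon_left hp hA (d := d) x 0 (m * n)) (U p n ^ m * Nat.uniformBell m n)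
      convert this using 1
      rw [Prod.smul_mk, nsmul_eq_mul, nsmul_eq_mul, nsmul_eq_mul]; push_cast
      rw [mul_assoc, mul_assoc]
    refine ((isUnit_U hp hA n).pow m).mul_left_cancel (rel_unique _ x 0 ?_ hR)
    rw [← g_smul hp hA hdI h2 m _ (g_mem hp hA hdI n hn hx), g_eq hp hA, ← key_poly hp]
    rcases eq_or_ne (n % p) 0 with hr | hr
    · have hk : n / p ≠ 0 := fun h0 => hn (by rw [← Nat.div_add_mod n p, h0, hr, mul_zero])
      rw [hr, pow_zero, one_mul, pow_zero, one_mul, ih _ (div_lt hp hn) m hk (hdI x hx), qdp_comp m hk,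
        ← nsmul_eq_mul, ← Prod.smul_mk]
      exact rel_nsmul _ x 0 (ry _) _
    · have e : n % p = n % p - 1 + 1 := (Nat.sub_add_cancel (Nat.pos_of_ne_zero hr)).symm
      rw [e, pow_succ x, pow_succ X', mul_right_comm (x ^ _), mul_right_comm (X' ^ _),
        g_smul hp hA hdI h2 m _ hx, qdp_scal, ← Prod.mk_mul_mk, ← Prod.pow_mk, ← Prod.mk_mul_mk,
        ← Prod.pow_mk]
      have hX := rel_mon_left hp hA (d := d) x 0 1
      rw [g_one hp hA, ← qdp_X, show qdp 1 X' = X' by simp [qdp]] at hX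
      exact rel_mul' hp hA hdI h1 h2 hx h0 (rel_pow hp hA hdI h1 h2 hx h0
        (rel_mul' hp hA hdI h1 h2 hx h0 (rel_pow hp hA hdI h1 h2 hx h0 hX _) (ry _)) m)
        (by rw [qdp_X]; exact rel_mon_left hp hA x 0 m)

theorem exists_dp : ∃! γ : DividedPowers I, ∀ x ∈ I, γ.dpow p x = d x := by
  classical
  let D : ℕ → A → A := fun n x => if x ∈ I then g p d n x else 0
  have hD : ∀ {n x}, x ∈ I → D n x = g p d n x := fun h => if_pos h
  let γ : DividedPowers I := {
    dpow := D
    dpow_null := fun h => if_neg h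
    dpow_zero := fun h => (hD h).trans (g_zero _)
    dpow_one := fun h => (hD h).trans (g_one hp hA _)
    dpow_mem := fun hn h => by rw [hD h]; exact g_mem hp hA hdI _ hn h
    dpow_add := fun hx hy => by
      rw [hD (add_mem hx hy), g_add hp hA hdI h1 h2 h3 _ hx hy]
      exact sum_congr rfl fun k _ => by rw [hD hx, hD hy]
    dpow_mul := fun hx => by rw [hD (I.mul_mem_left _ hx), hD hx, g_smul hp hA hdI h2 _ _ hx]
    mul_dpow := fun hx => by rw [hD hx, hD hx, hD hx, g_mul hp hA hdI h1 h2 _ _ hx]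
    dpow_comp := fun hn hx => by
      rw [hD hx, hD (g_mem hp hA hdI _ hn hx), hD hx, g_comp hp hA hdI h1 h2 _ _ hn hx] }
  refine ⟨γ, fun x hx => (hD hx).trans (g_p hp hA x), fun γ' hγ' => ?_⟩
  have key : ∀ n, ∀ x ∈ I, γ'.dpow n x = g p d n x := fun n => by
    induction n using Nat.strong_induction_on with
    | _ n ih =>
      intro x hx
      rcases eq_or_ne n 0 with rfl | hn
      · rw [γ'.dpow_zero hx, g_zero]
      refine (isUnit_U hp hA n).mul_left_cancel ?_
      rw [g_eq hp hA, ← ih _ (div_lt hp hn) _ (hdI x hx), ← hγ' x hx, γ'.dpow_comp hp.ne_zero hx,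
        ← γ'.factorial_mul_dpow_eq_pow hx, mul_assoc, mul_left_comm (γ'.dpow (n % p) x), γ'.mul_dpow hx,
        show n % p + n / p * p = n from Nat.mod_add_div' n p, U,
        Nat.ascFactorial_eq_factorial_mul_choose, Nat.div_add_mod]
      push_cast; ring
  refine DividedPowers.ext _ _ fun {n x} hx => ?_
  rw [key n x hx]; exact (hD hx).symm

end Groth.Agent.DPFromP
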