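import Groth.Agent.DPowLib.Basic

/-! Numerical facts about `n! = U n * (n/p)! * (p!)^(n/p)`. -/

set_option autoImplicit false

namespace Groth.Agent.DPFromP

open Finset Groth.Agent.DPowLib

/-- The prime-to-`p` natural number `n! / ((n/p)! (p!)^(n/p))`. -/
def U (p n : ℕ) : ℕ := Nat.uniformBell (n / p) p * (p * (n / p) + 1).ascFactorial (n % p)

variable {p : ℕ} (hp : p.Prime)
include hp

theorem U_spec (n : ℕ) : U p n * (n / p).factorial * p.factorial ^ (n / p) = n.factorial := by
  have h1 := Nat.uniformBell_mul_eq (n / p) hp.ne_zero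
  have h2 := Nat.factorial_mul_ascFactorial (p * (n / p)) (n % p)
  rw [Nat.div_add_mod, mul_comm p (n / p), ← h1] at h2
  rw [U, ← h2, mul_comm p (n / p)]; ring

theorem U_mul (k : ℕ) : U p (p * k) = Nat.uniformBell k p := by
  rw [U, Nat.mul_div_cancel_left k hp.pos, Nat.mul_mod_right, Nat.ascFactorial_zero, mul_one]

theorem U_small {i : ℕ} (hi : i < p) : U p i = i.factorial := by
  have := U_spec hp i
  rwa [Nat.div_eq_of_lt hi, Nat.factorial_zero, pow_zero, mul_one, mul_one] at this

theorem not_dvd_U (n : ℕ) : ¬ p ∣ U p n := by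
  intro h
  rcases hp.dvd_mul.1 h with h | h
  · rw [Nat.uniformBell_eq] at h
    obtain ⟨i, -, hi⟩ := (Prime.dvd_finsetProd_iff hp.prime _).1 h
    haveI := Fact.mk hp
    have h1 : (i * p + (p - 1)).choose (p - 1) ≡ _ [MOD p] := Choose.choose_modEq_choose_mod_mul_choose_div_nat
    have e1 : (i * p + (p - 1)) % p = p - 1 := by
      rw [Nat.add_mod, Nat.mul_mod_left, zero_add, Nat.mod_mod, Nat.mod_eq_of_lt (Nat.sub_lt hp.pos one_pos)]
    rw [e1, Nat.mod_eq_of_lt (Nat.sub_lt hp.pos one_pos), Nat.div_eq_of_lt (Nat.sub_lt hp.pos one_pos),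
      Nat.choose_self, Nat.choose_zero_right, one_mul] at h1
    rw [show i * p + p - 1 = i * p + (p - 1) by have := hp.pos; omega] at hi
    exact hp.not_dvd_one ((Nat.ModEq.dvd_iff h1 dvd_rfl).1 hi)
  · rw [Nat.ascFactorial_eq_prod_range] at h
    obtain ⟨j, hj, hd⟩ := (Prime.dvd_finsetProd_iff hp.prime _).1 h
    rw [mem_range] at hj
    have := Nat.mod_lt n hp.pos
    rw [show p * (n / p) + 1 + j = p * (n / p) + (1 + j) by ring, Nat.dvd_add_right (Dvd.intro _ rfl)] at hd
    have := Nat.le_of_dvd (by omega) hd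
    omega

theorem U_succ_small {n : ℕ} (h : n % p + 1 < p) : U p (n + 1) = U p n * (n + 1) := by
  have e : (n + 1) / p = n / p ∧ (n + 1) % p = n % p + 1 := by
    rw [Nat.div_mod_unique hp.pos]; exact ⟨by have := Nat.div_add_mod n p; omega, h⟩
  have := U_spec hp n
  have h' := U_spec hp (n + 1)
  rw [e.1, Nat.factorial_succ, ← this] at h'
  refine Nat.eq_of_mul_eq_mul_right (m := (n / p).factorial * p.factorial ^ (n / p))
    (Nat.mul_pos (Nat.factorial_pos _) (pow_pos (Nat.factorial_pos _) _)) ?_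
  linarith [h']

theorem U_succ_carry {n : ℕ} (h : n % p + 1 = p) :
    U p n * (n + 1) = p.factorial * (n / p + 1) * U p (n + 1) ∧ n + 1 = p * (n / p + 1) := by
  have e2 : n + 1 = p * (n / p + 1) := by
    have := Nat.div_add_mod n p; rw [mul_add, mul_one]; omega
  have e1 : (n + 1) / p = n / p + 1 := by rw [e2, Nat.mul_div_cancel_left _ hp.pos]
  have := U_spec hp n
  have h' := U_spec hp (n + 1)
  rw [e1, Nat.factorial_succ, Nat.factorial_succ n, ← this] at h'
  refine ⟨?_, e2⟩
  refine Nat.eq_of_mul_eq_mul_right (m := (n / p).factorial * p.factorial ^ (n / p))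
    (Nat.mul_pos (Nat.factorial_pos _) (pow_pos (Nat.factorial_pos _) _)) ?_
  rw [pow_succ] at h'
  linarith [h']

theorem U_mul_choose (m n : ℕ) :
    U p m * U p n * (m + n).choose m = (m / p + n / p).choose (m / p) *
      ((p * (m / p + n / p) + 1).ascFactorial (m % p + n % p) * Nat.uniformBell (m / p + n / p) p) := by
  have hm := U_spec hp m
  have hn := U_spec hp n
  have hk := Nat.uniformBell_mul_eq (m / p + n / p) hp.ne_zero
  have hK := Nat.factorial_mul_ascFactorial (p * (m / p + n / p)) (m % p + n % p)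
  have e : p * (m / p + n / p) + (m % p + n % p) = m + n := by
    have := Nat.div_add_mod m p; have := Nat.div_add_mod n p; rw [mul_add]; omega
  have hc := Nat.add_choose_mul_factorial_mul_factorial m n
  have hc' := Nat.add_choose_mul_factorial_mul_factorial (m / p) (n / p)
  rw [e, mul_comm p (m / p + n / p), ← hk, ← hc', ← hc, ← hm, ← hn, pow_add] at hK
  rw [Nat.choose_symm_add, ← Nat.choose_symm_add (a := m) (b := n), mul_comm p (m / p + n / p)]
  refine Nat.eq_of_mul_eq_mul_right (m := (m / p).factorial * p.factorial ^ (m / p) *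
    ((n / p).factorial * p.factorial ^ (n / p)))
    (Nat.mul_pos (Nat.mul_pos (Nat.factorial_pos _) (pow_pos (Nat.factorial_pos _) _))
      (Nat.mul_pos (Nat.factorial_pos _) (pow_pos (Nat.factorial_pos _) _))) ?_
  rw [Nat.choose_symm_add, Nat.choose_symm_add (a := m / p) (b := n / p)]
  linear_combination -hK

theorem asc_bell {i : ℕ} (hi : i ≠ 0) (m : ℕ) :
    (m + 1).ascFactorial ((i - 1) * m) = i.factorial ^ m * Nat.uniformBell m i := by
  have h1 := Nat.factorial_mul_ascFactorial m ((i - 1) * m)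
  have e : m + (i - 1) * m = m * i := by
    obtain ⟨i, rfl⟩ := Nat.exists_eq_succ_of_ne_zero hi
    simp; ring
  rw [e, ← Nat.uniformBell_mul_eq m hi] at h1
  refine Nat.eq_of_mul_eq_mul_left (Nat.factorial_pos m) ?_
  linarith [h1]

open Polynomial in
theorem key_poly (β : Polynomial (Polynomial ℚ)) (n : ℕ) :
    β ^ (n % p) * qdp (n / p) (qdp p β) = U p n • qdp n β := by
  have hf : ∀ r, β ^ r = r.factorial • qdp r β := fun r => by
    simp only [qdp, nsmul_eq_mul]
    rw [← mul_assoc, ← map_natCast (C : Polynomial ℚ →+* _), ← map_mul, ← map_natCast (C : ℚ →+* _), ← map_mul,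
      mul_inv_cancel₀ (by positivity), map_one, map_one, one_mul]
  rw [qdp_comp _ hp.ne_zero, hf, smul_mul_smul_comm, qdp_mul, smul_smul,
    show n % p + n / p * p = n from Nat.mod_add_div' n p, U,
    Nat.ascFactorial_eq_factorial_mul_choose, Nat.div_add_mod]
  ring_nf

end Groth.Agent.DPFromP
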